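import Cfsg.Agent.HeRecog.O6D.Data

/-! Generated: the entries. -/

set_option autoImplicit false
set_option maxRecDepth 100000

namespace Cfsg.Agent.HeRecog.O6

theorem TA_ok : O.TA.all (checkA O) = true := by decide +kernel

theorem TB_ok : O.TB.all (checkB O) = true := by decide +kernel

end Cfsg.Agent.HeRecog.O6
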