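import Cfsg.Agent.HeRecog.O6D.Data

/-! Generated: the search. -/

set_option autoImplicit false
set_option maxRecDepth 100000

namespace Cfsg.Agent.HeRecog.O6

set_option Elab.async false

theorem search_8 : search (leaf O) 5 8 = true := by decide +kernel

theorem search_10 : search (leaf O) 5 10 = true := by decide +kernel

theorem search_12 : search (leaf O) 5 12 = true := by decide +kernel

theorem search_14 : search (leaf O) 5 14 = true := by decide +kernel

theorem search_16 : search (leaf O) 5 16 = true := by decide +kernel

theorem search_17 : search (leaf O) 5 17 = true := by decide +kernel

theorem search_20 : search (leaf O) 5 20 = true := by decide +kernel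

end Cfsg.Agent.HeRecog.O6
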