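import Cfsg.Agent.HeRecog.O6D.Data

/-! Generated: the search. -/

set_option autoImplicit false
set_option maxRecDepth 100000

namespace Cfsg.Agent.HeRecog.O6

set_option Elab.async false

theorem search_21 : search (leaf O) 5 21 = true := by decide +kernel

theorem search_24 : search (leaf O) 5 24 = true := by decide +kernel

theorem search_27 : search (leaf O) 5 27 = true := by decide +kernel

theorem search_28 : search (leaf O) 5 28 = true := by decide +kernel

theorem search_31 : search (leaf O) 5 31 = true := by decide +kernel

theorem search_32 : search (leaf O) 5 32 = true := by decide +kernel

theorem search_33 : search (leaf O) 5 33 = true := by decide +kernel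

end Cfsg.Agent.HeRecog.O6
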