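import Cfsg.Agent.HeRecog.O6D.Data

/-! Generated: the search. -/

set_option autoImplicit false
set_option maxRecDepth 100000

namespace Cfsg.Agent.HeRecog.O6

set_option Elab.async false

theorem search_34 : search (leaf O) 5 34 = true := by decide +kernel

theorem search_35 : search (leaf O) 5 35 = true := by decide +kernel

theorem search_40 : search (leaf O) 5 40 = true := by decide +kernel

theorem search_42 : search (leaf O) 5 42 = true := by decide +kernel

theorem search_45 : search (leaf O) 5 45 = true := by decide +kernel

theorem search_47 : search (leaf O) 5 47 = true := by decide +kernel

theorem search_48 : search (leaf O) 5 48 = true := by decide +kernel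

end Cfsg.Agent.HeRecog.O6
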