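import Cfsg.Agent.HeRecog.O6D.Data

/-! Generated: the search. -/

set_option autoImplicit false
set_option maxRecDepth 100000

namespace Cfsg.Agent.HeRecog.O6

set_option Elab.async false

theorem search_49 : search (leaf O) 5 49 = true := by decide +kernel

theorem search_54 : search (leaf O) 5 54 = true := by decide +kernel

theorem search_55 : search (leaf O) 5 55 = true := by decide +kernel

theorem search_56 : search (leaf O) 5 56 = true := by decide +kernel

theorem search_59 : search (leaf O) 5 59 = true := by decide +kernel

theorem search_61 : search (leaf O) 5 61 = true := by decide +kernel

theorem search_62 : search (leaf O) 5 62 = true := by decide +kernel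

end Cfsg.Agent.HeRecog.O6
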