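import Cfsg.Agent.HeRecog.O6D.Search0
import Cfsg.Agent.HeRecog.O6D.Search1
import Cfsg.Agent.HeRecog.O6D.Search2
import Cfsg.Agent.HeRecog.O6D.Search3
import Cfsg.Agent.HeRecog.O6D.Search4
import Cfsg.Agent.HeRecog.O6D.Entries

/-! Generated: the search combined. -/

set_option autoImplicit false
set_option maxRecDepth 100000

namespace Cfsg.Agent.HeRecog.O6

theorem search_all {c : Nat} (hc : c < 64) (hq : qf c = 0) (h0 : c ≠ 0) : search (leaf O) 5 c = true := by
  interval_cases c
  · exact absurd rfl h0
  · exact search_1
  · exact search_2
  · exact search_3
  · exact search_4
  · exact search_5
  · exact search_6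
  · exact search_7
  · exact search_8
  · exact absurd hq (by decide +kernel)
  · exact search_10
  · exact absurd hq (by decide +kernel)
  · exact search_12
  · exact absurd hq (by decide +kernel)
  · exact search_14
  · exact absurd hq (by decide +kernel)
  · exact search_16
  · exact search_17
  · exact absurd hq (by decide +kernel)
  · exact absurd hq (by decide +kernel)
  · exact search_20
  · exact search_21
  · exact absurd hq (by decide +kernel)
  · exact absurd hq (by decide +kernel)
  · exact search_24
  · exact absurd hq (by decide +kernel)
  · exact absurd hq (by decide +kernel)
  · exact search_27
  · exact search_28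
  · exact absurd hq (by decide +kernel)
  · exact absurd hq (by decide +kernel)
  · exact search_31
  · exact search_32
  · exact search_33
  · exact search_34
  · exact search_35
  · exact absurd hq (by decide +kernel)
  · exact absurd hq (by decide +kernel)
  · exact absurd hq (by decide +kernel)
  · exact absurd hq (by decide +kernel)
  · exact search_40
  · exact absurd hq (by decide +kernel)
  · exact search_42
  · exact absurd hq (by decide +kernel)
  · exact absurd hq (by decide +kernel)
  · exact search_45
  · exact absurd hq (by decide +kernel)
  · exact search_47
  · exact search_48
  · exact search_49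
  · exact absurd hq (by decide +kernel)
  · exact absurd hq (by decide +kernel)
  · exact absurd hq (by decide +kernel)
  · exact absurd hq (by decide +kernel)
  · exact search_54
  · exact search_55
  · exact search_56
  · exact absurd hq (by decide +kernel)
  · exact absurd hq (by decide +kernel)
  · exact search_59
  · exact absurd hq (by decide +kernel)
  · exact search_61
  · exact search_62
  · exact absurd hq (by decide +kernel)

/-- Every isometry satisfies the leaf condition. -/
theorem leaf_iso {f : Nat → Nat} (hf : Iso f) : leaf O (enc f) = true :=
  search_spec hf (search_all (hf.lt 1 (by norm_num)) (first_mem hf).1 (first_mem hf).2)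

end Cfsg.Agent.HeRecog.O6
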