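import Cfsg.Agent.HeRecog.O6D.Data

/-! Generated: the search. -/

set_option autoImplicit false
set_option maxRecDepth 100000

namespace Cfsg.Agent.HeRecog.O6

set_option Elab.async false

theorem search_1 : search (leaf O) 5 1 = true := by decide +kernel

theorem search_2 : search (leaf O) 5 2 = true := by decide +kernel

theorem search_3 : search (leaf O) 5 3 = true := by decide +kernel

theorem search_4 : search (leaf O) 5 4 = true := by decide +kernel

theorem search_5 : search (leaf O) 5 5 = true := by decide +kernel

theorem search_6 : search (leaf O) 5 6 = true := by decide +kernel

theorem search_7 : search (leaf O) 5 7 = true := by decide +kernel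

end Cfsg.Agent.HeRecog.O6
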